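import Mathlib
import Groth.Prelude.Def_AlgSp
import Groth.Agent.Lib.Helper15.AlgSpBasic

/-!
# Descent of maps of sheaves along a covering family of representables (helper19)
-/

set_option autoImplicit false

universe u

open CategoryTheory CategoryTheory.Limits AlgebraicGeometry Opposite

namespace Groth.Agent.Helper19.CatMod

open AlgSp Groth.Agent.Helper15

variable {S : Scheme.{u}}

/-- maps out of a representable sheaf which agree on a covering sieve are equal. -/
theorem yon_hom_ext_of_mem_J {T : Over S} {G : Sp S} (R : Sieve T) (hR : R ∈ (J S) T)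
    (l l' : (yon S).obj T ⟶ G)
    (h : ∀ (V : Over S) (g : V ⟶ T), R g → (yon S).map g ≫ l = (yon S).map g ≫ l') : l = l' := by
  apply (yonEquiv (T := T) (F := G)).injective
  have hsh := ((isSheaf_iff_isSheaf_of_type _ _).1 G.property) _ hR
  refine hsh.isSeparatedFor.ext ?_
  intro V g hg
  have h1 := GrothendieckTopology.uliftYonedaEquiv_naturality (J S) l g
  have h2 := GrothendieckTopology.uliftYonedaEquiv_naturality (J S) l' g
  exact h1.trans ((congrArg yonEquiv (h V g hg)).trans h2.symm)

/-- gluing maps out of a representable sheaf along a covering sieve. -/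
theorem exists_glue_yon_sieve {T : Over S} {G : Sp S} (R : Sieve T) (hR : R ∈ (J S) T)
    (x : ∀ (V : Over S) (g : V ⟶ T), R g → ((yon S).obj V ⟶ G))
    (hx : ∀ (V : Over S) (g : V ⟶ T) (hg : R g) (V' : Over S) (p : V' ⟶ V),
      (yon S).map p ≫ x V g hg = x V' (p ≫ g) (R.downward_closed hg p)) :
    ∃ l : (yon S).obj T ⟶ G, ∀ (V : Over S) (g : V ⟶ T) (hg : R g), (yon S).map g ≫ l = x V g hg := by
  have hsh := ((isSheaf_iff_isSheaf_of_type _ _).1 G.property) _ hR
  let fam : Presieve.FamilyOfElements G.obj R.arrows := fun V g hg => yonEquiv (x V g hg)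
  have hfam : fam.Compatible := by
    rw [Presieve.compatible_iff_sieveCompatible]
    intro V V' g p hg
    have h1 := GrothendieckTopology.uliftYonedaEquiv_naturality (J S) (x V g hg) p
    change yonEquiv (x V' (p ≫ g) _) = G.obj.map p.op (yonEquiv (x V g hg))
    rw [← hx V g hg V' p]
    exact h1.symm
  obtain ⟨t, ht, -⟩ := hsh fam hfam
  refine ⟨yonEquiv.symm t, fun V g hg => ?_⟩
  apply (yonEquiv (T := V) (F := G)).injective
  have h1 := GrothendieckTopology.uliftYonedaEquiv_naturality (J S) (yonEquiv.symm t) g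
  refine h1.symm.trans ?_
  erw [Equiv.apply_symm_apply]
  exact ht g hg


section Cover

variable {M N : Sp S} {ι : Type*} (U : ι → Over S) (u : ∀ k, (yon S).obj (U k) ⟶ M)

/-- the sieve of maps to `T` along which `m` lifts to one of the charts. -/
def liftSieve {T : Over S} (m : (yon S).obj T ⟶ M) : Sieve T where
  arrows V g := ∃ (k : ι) (s : V ⟶ U k), (yon S).map s ≫ u k = (yon S).map g ≫ m
  downward_closed := by
    rintro V V' g ⟨k, s, hs⟩ p
    exact ⟨k, p ≫ s, by
      rw [Functor.map_comp, Category.assoc, hs, Functor.map_comp, Category.assoc]⟩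

variable {U u}

/-- uniqueness of descended maps. -/
theorem desc_ext (hcov : ∀ (T : Over S) (m : (yon S).obj T ⟶ M), liftSieve U u m ∈ (J S) T)
    (g g' : M ⟶ N) (h : ∀ k, u k ≫ g = u k ≫ g') : g = g' := by
  apply hom_ext_yon
  intro T m
  refine yon_hom_ext_of_mem_J _ (hcov T m) _ _ ?_
  rintro V t ⟨k, s, hs⟩
  rw [← Category.assoc, ← Category.assoc, ← hs, Category.assoc, Category.assoc, h k]

variable (x : ∀ k, (yon S).obj (U k) ⟶ N)
  (hx : ∀ (k l : ι) (Z : Over S) (p : Z ⟶ U k) (p' : Z ⟶ U l),
    (yon S).map p ≫ u k = (yon S).map p' ≫ u l → (yon S).map p ≫ x k = (yon S).map p' ≫ x l)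

include hx in
theorem exists_local_desc (hcov : ∀ (T : Over S) (m : (yon S).obj T ⟶ M), liftSieve U u m ∈ (J S) T)
    {T : Over S} (m : (yon S).obj T ⟶ M) :
    ∃ l : (yon S).obj T ⟶ N, ∀ (V : Over S) (t : V ⟶ T) (k : ι) (s : V ⟶ U k),
      (yon S).map s ≫ u k = (yon S).map t ≫ m → (yon S).map t ≫ l = (yon S).map s ≫ x k := by
  classical
  obtain ⟨l, hl⟩ := exists_glue_yon_sieve (G := N) (liftSieve U u m) (hcov T m)
    (fun V g hg => (yon S).map hg.choose_spec.choose ≫ x hg.choose) (by
      intro V g hg V' p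
      have h1 := hg.choose_spec.choose_spec
      have hg' : (liftSieve U u m) (p ≫ g) := (liftSieve U u m).downward_closed hg p
      have h2 := hg'.choose_spec.choose_spec
      rw [← Category.assoc, ← Functor.map_comp]
      refine hx _ _ V' _ _ ?_
      rw [Functor.map_comp, Category.assoc, h1, h2, Functor.map_comp, Category.assoc])
  refine ⟨l, fun V t k s hs => ?_⟩
  have ht : (liftSieve U u m) t := ⟨k, s, hs⟩
  rw [hl V t ht]
  exact hx _ _ V _ _ (ht.choose_spec.choose_spec.trans hs.symm)

include hx in
/-- descent of maps of sheaves along a covering family of maps from representables. -/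
theorem exists_desc (hcov : ∀ (T : Over S) (m : (yon S).obj T ⟶ M), liftSieve U u m ∈ (J S) T) :
    ∃ g : M ⟶ N, ∀ k, u k ≫ g = x k := by
  classical
  choose l hl using fun (T : Over S) (m : (yon S).obj T ⟶ M) => exists_local_desc x hx hcov m
  have hnat : ∀ (T T' : Over S) (f : T' ⟶ T) (m : (yon S).obj T ⟶ M),
      l T' ((yon S).map f ≫ m) = (yon S).map f ≫ l T m := by
    intro T T' f m
    refine yon_hom_ext_of_mem_J _ (hcov T' ((yon S).map f ≫ m)) _ _ ?_
    rintro V t ⟨k, s, hs⟩
    rw [hl T' _ V t k s hs, ← Category.assoc, ← Functor.map_comp]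
    refine (hl T m V (t ≫ f) k s ?_).symm
    rw [hs, Functor.map_comp, Category.assoc]
  let g : M ⟶ N := ObjectProperty.homMk
    { app := fun T => ↾fun m => yonEquiv (l T.unop (yonEquiv.symm m))
      naturality := by
        intro T T' f
        ext m
        change yonEquiv (l T'.unop (yonEquiv.symm (M.obj.map f m))) =
          N.obj.map f (yonEquiv (l T.unop (yonEquiv.symm m)))
        have h1 := GrothendieckTopology.uliftYonedaEquiv_naturality (J S) (l T.unop (yonEquiv.symm m)) f.unop
        have h2 := GrothendieckTopology.uliftYonedaEquiv_naturality (J S) (yonEquiv.symm m) f.unop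
        have h3 : yonEquiv.symm (M.obj.map f m) = (yon S).map f.unop ≫ yonEquiv.symm m := by
          apply (yonEquiv (T := T'.unop) (F := M)).injective
          rw [Equiv.apply_symm_apply]
          refine Eq.trans ?_ h2
          erw [Equiv.apply_symm_apply]
          rfl
        rw [h3, hnat]
        exact h1.symm }
  refine ⟨g, fun k => ?_⟩
  apply (yonEquiv (T := U k) (F := N)).injective
  rw [GrothendieckTopology.uliftYonedaEquiv_comp]
  change yonEquiv (l (U k) (yonEquiv.symm (yonEquiv (u k)))) = _
  rw [Equiv.symm_apply_apply]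
  congr 1
  have := hl (U k) (u k) (U k) (𝟙 _) k (𝟙 _) rfl
  rw [CategoryTheory.Functor.map_id, Category.id_comp, Category.id_comp] at this
  exact this

end Cover

end Groth.Agent.Helper19.CatMod
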