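import Mathlib
import Groth.Prelude.Def_StCoarse
import Groth.Agent.Lib.Helper19.PshLib
import Groth.Agent.Lib.Helper19.FibLib2
import Groth.Agent.Lib.Helper19.CatMod.Desc

/-!
# Categorical moduli spaces: descent data over charts (helper19)
-/

set_option autoImplicit false
set_option backward.isDefEq.respectTransparency false

universe u

open CategoryTheory CategoryTheory.Limits AlgebraicGeometry Opposite

namespace Groth.Agent.Helper19.CatMod

open FibCat AlgSt AlgSp Stk Groth.Agent.Helper19.PshLib Groth.Agent.Helper19.FibLib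
  Groth.Agent.Helper15

variable {S : Scheme.{u}} {𝒵 : AlgSt.Cat S} {M N : AlgSp.Sp S} (π : 𝒵 ⥤ᵇ ofSp M)

/-- `x` is the descent of `φ` over the chart `u`. -/
def IsDescOf {U : Over S} (u : (yon S).obj U ⟶ M) (φ : 𝒵 ⥤ᵇ ofSp N)
    (x : (yon S).obj U ⟶ N) : Prop :=
  ∀ w : (fp (ofSpMap u) π).obj,
    secOf (BasedFunctor.comp (fpFst (ofSpMap u) π) (ofSpMap x)) w =
      secOf (BasedFunctor.comp (fpSnd (ofSpMap u) π) φ) w

theorem isDescOf_iff {U : Over S} (u : (yon S).obj U ⟶ M) (φ : 𝒵 ⥤ᵇ ofSp N)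
    (x : (yon S).obj U ⟶ N) :
    Nonempty (BasedFunctor.comp (fpFst (ofSpMap u) π) (ofSpMap x) ≅
      BasedFunctor.comp (fpSnd (ofSpMap u) π) φ) ↔ IsDescOf π u φ x :=
  ⟨fun ⟨θ⟩ w => secOf_eq_of_iso θ w, fun h => ⟨isoOfSecOfEq _ _ h⟩⟩

/-- the square of the fibre product on sections. -/
theorem secOf_fpIso {U : Over S} (u : (yon S).obj U ⟶ M) (w : (fp (ofSpMap u) π).obj) :
    secOf (BasedFunctor.comp (fpFst (ofSpMap u) π) (ofSpMap u)) w =
      secOf (BasedFunctor.comp (fpSnd (ofSpMap u) π) π) w :=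
  secOf_eq_of_iso (fpIso (ofSpMap u) π) w

/-- a global factorisation restricts to every chart. -/
theorem isDescOf_of_global {U : Over S} (u : (yon S).obj U ⟶ M) (φ : 𝒵 ⥤ᵇ ofSp N) (g : M ⟶ N)
    (hg : Nonempty (BasedFunctor.comp π (ofSpMap g) ≅ φ)) : IsDescOf π u φ (u ≫ g) := by
  obtain ⟨θ⟩ := hg
  intro w
  have h1 := secOf_eq_of_iso (whiskerLeftIso (fpSnd (ofSpMap u) π) θ) w
  refine Eq.trans ?_ h1
  have h2 : secOf (BasedFunctor.comp (fpSnd (ofSpMap u) π) (BasedFunctor.comp π (ofSpMap g))) w =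
      secOf (BasedFunctor.comp (BasedFunctor.comp (fpSnd (ofSpMap u) π) π) (ofSpMap g)) w := rfl
  rw [h2, secOf_comp_ofPshMap, secOf_comp_ofPshMap, ← secOf_fpIso, secOf_comp_ofPshMap]
  rfl


/-- restriction of descent data along a map of charts. -/
theorem isDescOf_refine {U U₁ : Over S} (a : U₁ ⟶ U) (u : (yon S).obj U ⟶ M) (φ : 𝒵 ⥤ᵇ ofSp N)
    (x : (yon S).obj U ⟶ N) (h : IsDescOf π u φ x) :
    IsDescOf π ((yon S).map a ≫ u) φ ((yon S).map a ≫ x) := by
  intro w
  let e : BasedFunctor.comp (BasedFunctor.comp (fpFst (ofSpMap ((yon S).map a ≫ u)) π)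
      (ofSpMap ((yon S).map a))) (ofSpMap u) ≅
      BasedFunctor.comp (fpSnd (ofSpMap ((yon S).map a ≫ u)) π) π :=
    isoOfSecOfEq _ _ (fun w => by
      rw [secOf_comp_ofPshMap, secOf_comp_ofPshMap, ← secOf_fpIso, secOf_comp_ofPshMap]
      rfl)
  let A : fp (ofSpMap ((yon S).map a ≫ u)) π ⥤ᵇ fp (ofSpMap u) π := fpLift _ _ e
  have h1 := h (A.obj w)
  have h3 : secOf (fpFst (ofSpMap u) π) (A.obj w) =
      secOf (BasedFunctor.comp (fpFst (ofSpMap ((yon S).map a ≫ u)) π)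
        (ofSpMap ((yon S).map a))) w := rfl
  have h4 : secOf (BasedFunctor.comp (fpSnd (ofSpMap u) π) φ) (A.obj w) =
      secOf (BasedFunctor.comp (fpSnd (ofSpMap ((yon S).map a ≫ u)) π) φ) w := rfl
  rw [← h4, ← h1, secOf_comp_ofPshMap, secOf_comp_ofPshMap, h3, secOf_comp_ofPshMap]
  rfl


/-- descent data on a covering family of charts which come from a global map give a global
factorisation. -/
theorem secOf_eq_of_isDescOf (h𝒵 : IsFibGrpd 𝒵.p) {ι : Type*} (U : ι → Over S)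
    (u : ∀ k, (yon S).obj (U k) ⟶ M)
    (hcov : ∀ (T : Over S) (m : (yon S).obj T ⟶ M), liftSieve U u m ∈ (J S) T)
    (φ : 𝒵 ⥤ᵇ ofSp N) (g : M ⟶ N) (h : ∀ k, IsDescOf π (u k) φ (u k ≫ g)) (z : 𝒵.obj) :
    secOf (BasedFunctor.comp π (ofSpMap g)) z = secOf φ z := by
  let m : (yon S).obj (𝒵.p.obj z) ⟶ M := yonEquiv.symm (secOf π z)
  have hsh := ((isSheaf_iff_isSheaf_of_type _ _).1 N.property) _ (hcov (𝒵.p.obj z) m)
  refine hsh.isSeparatedFor.ext ?_
  rintro V t ⟨k, s, hs⟩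
  obtain ⟨z', ζ, hζ⟩ := h𝒵.exists_lift (x := z) t
  have hd : 𝒵.p.obj z' = V := IsHomLift.domain_eq 𝒵.p t ζ
  subst hd
  have hfac : 𝒵.p.map ζ = t := by
    have := IsHomLift.fac' 𝒵.p t ζ
    simpa using this
  have n1 := secOf_naturality (BasedFunctor.comp π (ofSpMap g)) ζ
  have n2 := secOf_naturality φ ζ
  have n3 := secOf_naturality π ζ
  rw [hfac] at n1 n2 n3
  refine n1.trans (Eq.trans ?_ n2.symm)
  -- the lifted section
  let σ : ((yon S).obj (U k)).obj.obj (op (𝒵.p.obj z')) := yonEquiv ((yon S).map s)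
  have hσ : (u k).hom.app _ σ = secOf π z' := by
    have e1 := GrothendieckTopology.uliftYonedaEquiv_comp (J S) ((yon S).map s) (u k)
    have e2 := GrothendieckTopology.uliftYonedaEquiv_naturality (J S) m t
    refine e1.symm.trans ?_
    rw [hs]
    refine e2.symm.trans ?_
    refine Eq.trans ?_ n3
    congr 1
    exact Equiv.apply_symm_apply _ _
  let a₀ : (ofSp ((yon S).obj (U k))).obj := ⟨𝒵.p.obj z', σ⟩
  let w : (fp (ofSpMap (u k)) π).obj := fpMk (ofSpMap (u k)) π a₀ z'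
    (eltIso (a := (ofSpMap (u k)).obj a₀) (b := π.obj z') (base_eq π z').symm hσ.symm) (by
      apply IsHomLift.of_fac (ofSp M).p _ _ rfl (π.w_obj z')
      simp)
  have hw := h k w
  have h5 : secOf (fpFst (ofSpMap (u k)) π) w = σ := by
    unfold secOf
    exact map_id_apply _ _
  have h6 : secOf (BasedFunctor.comp (fpSnd (ofSpMap (u k)) π) φ) w = secOf φ z' := rfl
  rw [h6, secOf_comp_ofPshMap, h5] at hw
  rw [secOf_comp_ofPshMap, ← hσ]
  exact hw


/-- the étale affine charts of a sheaf. -/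
def Chart (M : AlgSp.Sp S) : Type (u + 1) :=
  {p : Σ U : Over S, ((yon S).obj U ⟶ M) // IsAffine p.1.left ∧ RepWith @Etale p.2}

/-- the source of a chart. -/
abbrev Chart.src (k : Chart M) : Over S := k.1.1

/-- the map of a chart. -/
abbrev Chart.map (k : Chart M) : (yon S).obj k.src ⟶ M := k.1.2

/-- the étale affine charts of an algebraic space cover it. -/
theorem chart_cover (hM : IsAlgSpace M) (T : Over S) (m : (yon S).obj T ⟶ M) :
    liftSieve (fun k : Chart M => k.src) (fun k => k.map) m ∈ (J S) T := by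
  obtain ⟨W, c, hc1, hc2⟩ := hM.atlas
  have hrep := hc1.rep
  have hEt : Etale (hrep.snd m).left := hc1.property_snd m
  have hSurj : Surjective (hrep.snd m).left := hc2.property m _ _ (hrep.isPullback m)
  let Wa : W.left.affineOpens → Over S := fun a => Over.mk (a.1.ι ≫ W.hom)
  let ia : ∀ a, Wa a ⟶ W := fun a => Over.homMk a.1.ι rfl
  let Va : W.left.affineOpens → Over S := fun a =>
    Over.mk (((hrep.fst' m).left ⁻¹ᵁ a.1).ι ≫ (hrep.pullback m).hom)
  let ja : ∀ a, Va a ⟶ hrep.pullback m := fun a => Over.homMk ((hrep.fst' m).left ⁻¹ᵁ a.1).ι rfl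
  let sa : ∀ a, Va a ⟶ Wa a := fun a => Over.homMk ((hrep.fst' m).left ∣_ a.1) (by
    change ((hrep.fst' m).left ∣_ a.1) ≫ a.1.ι ≫ W.hom =
      ((hrep.fst' m).left ⁻¹ᵁ a.1).ι ≫ (hrep.pullback m).hom
    rw [← Category.assoc, morphismRestrict_ι, Category.assoc, Over.w])
  have hsq : ∀ a, sa a ≫ ia a = ja a ≫ hrep.fst' m := by
    intro a
    ext
    exact morphismRestrict_ι _ _
  have hcov := ofArrows_mem_J Va (fun a => ja a ≫ hrep.snd m)
    (fun a => by
      change Flat (((hrep.fst' m).left ⁻¹ᵁ a.1).ι ≫ (hrep.snd m).left)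
      infer_instance)
    (fun a => by
      change LocallyOfFinitePresentation (((hrep.fst' m).left ⁻¹ᵁ a.1).ι ≫ (hrep.snd m).left)
      infer_instance)
    (fun t => by
      obtain ⟨y, hy⟩ := hSurj.surj t
      obtain ⟨_, ⟨V, hV, rfl⟩, hyV, -⟩ := W.left.isBasis_affineOpens.exists_subset_of_mem_open
        (Set.mem_univ ((hrep.fst' m).left y)) isOpen_univ
      refine ⟨⟨V, hV⟩, ⟨y, hyV⟩, ?_⟩
      exact hy)
  refine (J S).superset_covering ?_ hcov
  rw [Sieve.ofArrows, Sieve.generate_le_iff]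
  rintro _ _ ⟨a⟩
  refine ⟨⟨⟨Wa a, (yon S).map (ia a) ≫ c⟩, a.2, ?_⟩, sa a, ?_⟩
  · exact (RepWith @Etale).comp_mem _ _ ((repWith_yon_map_iff _ _).2 (by
      change Etale a.1.ι
      infer_instance)) hc1
  · change (yon S).map (sa a) ≫ (yon S).map (ia a) ≫ c = _
    rw [← Category.assoc, ← Functor.map_comp, hsq, Functor.map_comp, Functor.map_comp,
      Category.assoc, Category.assoc, hrep.map_fst', hrep.w m]


section Compat

variable (φ : 𝒵 ⥤ᵇ ofSp N) (x : ∀ k : Chart M, (yon S).obj k.src ⟶ N)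
  (hx1 : ∀ k : Chart M, IsDescOf π k.map φ (x k))
  (hx2 : ∀ (k : Chart M) (x' : (yon S).obj k.src ⟶ N), IsDescOf π k.map φ x' → x' = x k)

include hx1 hx2 in
theorem chart_refine (k k₁ : Chart M) (a : k₁.src ⟶ k.src) (ha : (yon S).map a ≫ k.map = k₁.map) :
    (yon S).map a ≫ x k = x k₁ := by
  apply hx2
  have := isDescOf_refine π a k.map φ (x k) (hx1 k)
  rw [ha] at this
  exact this

include hx1 hx2 in
theorem chart_compat (k l : Chart M) (Z : Over S) (p : Z ⟶ k.src) (p' : Z ⟶ l.src)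
    (hpp : (yon S).map p ≫ k.map = (yon S).map p' ≫ l.map) :
    (yon S).map p ≫ x k = (yon S).map p' ≫ x l := by
  have hrep := k.2.2.rep
  have hEt : Etale (hrep.snd l.map).left := k.2.2.property_snd l.map
  let R : Over S := hrep.pullback l.map
  let Rb : R.left.affineOpens → Over S := fun b => Over.mk (b.1.ι ≫ R.hom)
  let ib : ∀ b, Rb b ⟶ R := fun b => Over.homMk b.1.ι rfl
  let kb : R.left.affineOpens → Chart M := fun b =>
    ⟨⟨Rb b, (yon S).map (ib b ≫ hrep.snd l.map) ≫ l.map⟩, b.2,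
      (RepWith @Etale).comp_mem _ _ ((repWith_yon_map_iff _ _).2 (by
        change Etale (b.1.ι ≫ (hrep.snd l.map).left)
        infer_instance)) l.2.2⟩
  have h1 : ∀ b, (yon S).map (ib b ≫ hrep.snd l.map) ≫ x l = x (kb b) := fun b =>
    chart_refine π φ x hx1 hx2 l (kb b) (ib b ≫ hrep.snd l.map) rfl
  have h2 : ∀ b, (yon S).map (ib b ≫ hrep.fst' l.map) ≫ x k = x (kb b) := fun b =>
    chart_refine π φ x hx1 hx2 k (kb b) (ib b ≫ hrep.fst' l.map) (by
      change _ = (yon S).map (ib b ≫ hrep.snd l.map) ≫ l.map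
      rw [Functor.map_comp, Functor.map_comp, Category.assoc, Category.assoc, hrep.map_fst',
        hrep.w l.map])
  have hcov : Sieve.ofArrows Rb ib ∈ (J S) R := ofArrows_mem_J Rb ib
    (fun b => by change Flat b.1.ι; infer_instance)
    (fun b => by change LocallyOfFinitePresentation b.1.ι; infer_instance)
    (fun t => by
      obtain ⟨_, ⟨V, hV, rfl⟩, htV, -⟩ := R.left.isBasis_affineOpens.exists_subset_of_mem_open
        (Set.mem_univ t) isOpen_univ
      exact ⟨⟨V, hV⟩, ⟨t, htV⟩, rfl⟩)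
  have hE : (yon S).map (hrep.fst' l.map) ≫ x k = (yon S).map (hrep.snd l.map) ≫ x l := by
    refine yon_hom_ext_of_mem_J _ hcov _ _ ?_
    rintro V g ⟨_, q, _, ⟨b⟩, rfl⟩
    rw [Functor.map_comp, Category.assoc, Category.assoc, ← Category.assoc ((yon S).map (ib b)),
      ← Category.assoc ((yon S).map (ib b)), ← Functor.map_comp, ← Functor.map_comp, h1, h2]
  have e1 := hrep.lift'_fst p p' hpp
  have e2 := hrep.lift'_snd p p' hpp
  calc (yon S).map p ≫ x k
      = (yon S).map (hrep.lift' p p' hpp ≫ hrep.fst' l.map) ≫ x k := by rw [e1]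
    _ = (yon S).map (hrep.lift' p p' hpp) ≫ (yon S).map (hrep.snd l.map) ≫ x l := by
        rw [Functor.map_comp, Category.assoc, hE]
    _ = (yon S).map p' ≫ x l := by rw [← Category.assoc, ← Functor.map_comp, e2]

end Compat

/-- **Local-to-global for categorical moduli spaces**: if the base change of `π : 𝒵 ⟶ M` to every
affine scheme étale over the algebraic space `M` is a categorical moduli space, so is `π`. -/
theorem isCatModuli_of_charts (h𝒵 : IsFibGrpd 𝒵.p) (hM : IsAlgSpace M)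
    (h : ∀ (U : Over S), IsAffine U.left → ∀ u : (yon S).obj U ⟶ M, RepWith @Etale u →
      IsCatModuli (fpFst (ofSpMap u) π)) : IsCatModuli π := by
  refine ⟨hM, fun N hN φ => ?_⟩
  have hk : ∀ k : Chart M, ∃ x : (yon S).obj k.src ⟶ N, IsDescOf π k.map φ x ∧
      ∀ x' : (yon S).obj k.src ⟶ N, IsDescOf π k.map φ x' → x' = x := by
    intro k
    obtain ⟨x, hx, hxu⟩ := (h k.src k.2.1 k.map k.2.2).2 N hN
      (BasedFunctor.comp (fpSnd (ofSpMap k.map) π) φ)
    exact ⟨x, (isDescOf_iff π k.map φ x).1 hx, fun x' hx' =>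
      hxu x' ((isDescOf_iff π k.map φ x').2 hx')⟩
  choose x hx1 hx2 using hk
  obtain ⟨g, hg⟩ := exists_desc (U := fun k : Chart M => k.src) (u := fun k => k.map) x
    (chart_compat π φ x hx1 hx2) (chart_cover hM)
  refine ⟨g, ?_, ?_⟩
  · exact ⟨isoOfSecOfEq _ _ (secOf_eq_of_isDescOf π h𝒵 _ _ (chart_cover hM) φ g (fun k => by
      rw [hg k]
      exact hx1 k))⟩
  · intro g' hg'
    apply desc_ext (chart_cover hM)
    intro k
    rw [hg k]
    exact hx2 k _ (isDescOf_of_global π _ φ g' hg')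

end Groth.Agent.Helper19.CatMod
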