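import Mathlib
import Groth.Prelude.Def_StCoarse
import Groth.Agent.Lib.Helper19.CatMod.Local
import Groth.Agent.Lib.Helper19.GerbD.Coarse
import Groth.Agent.Lib.Helper19.FpFibU
import Groth.Agent.Lib.Helper15.AlgSpLocP

/-!
# Uniform categorical moduli spaces from affine flat base changes (helper19)
-/

set_option autoImplicit false
set_option backward.isDefEq.respectTransparency false

universe u

open CategoryTheory CategoryTheory.Limits AlgebraicGeometry Opposite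

namespace Groth.Agent.Helper19.CatMod

open FibCat AlgSt AlgSp Stk Groth.Agent.Helper19.PshLib Groth.Agent.Helper19.FibLib
  Groth.Agent.Helper15

variable {S : Scheme.{u}}

/-- categorical moduli spaces transfer along equivalences of the source. -/
theorem isCatModuli_of_equiv {𝒵₁ 𝒵₂ : AlgSt.Cat S} (E : 𝒵₁ ⥤ᵇ 𝒵₂) (hE : IsEquivOver E)
    {M : AlgSp.Sp S} (π₂ : 𝒵₂ ⥤ᵇ ofSp M) (h : IsCatModuli (BasedFunctor.comp E π₂)) :
    IsCatModuli π₂ := by
  obtain ⟨E', ⟨η⟩, ⟨ε⟩⟩ := hE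
  refine Groth.Agent.Helper19.GerbD.isCatModuli_of_comp E ?_ π₂ h
  intro N hN φ
  refine ⟨BasedFunctor.comp E' φ, ⟨?_⟩, ?_⟩
  · exact (whiskerRightIso η φ : BasedFunctor.comp E (BasedFunctor.comp E' φ) ≅ φ)
  · rintro ψ' ⟨θ⟩
    exact ⟨((whiskerRightIso ε ψ').symm : ψ' ≅ BasedFunctor.comp E' (BasedFunctor.comp E ψ')) ≪≫
      whiskerLeftIso E' θ⟩

theorem etale_le_flat : (@Etale : MorphismProperty Scheme.{u}) ≤ @Flat :=
  fun _ _ f hf => by haveI : Etale f := hf; infer_instance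

section Main

variable {𝒳 : AlgSt.Cat S} (h𝒳 : IsFibGrpd 𝒳.p) {Y : AlgSp.Sp S} (f : 𝒳 ⥤ᵇ ofSp Y)
  (hf : ∀ (Y' : Over S), IsAffine Y'.left → ∀ (g : (yon S).obj Y' ⟶ Y), LocP @Flat g →
    IsCatModuli (fpFst (ofSpMap g) f))

include h𝒳 hf in
theorem isCatModuli_fpFst_of_flat (M' : AlgSp.Sp S) (hM' : IsAlgSpace M') (g : M' ⟶ Y)
    (hg : LocP @Flat g) : IsCatModuli (fpFst (ofSpMap g) f) := by
  apply isCatModuli_of_charts _
    (Groth.Agent.Helper19.FpFibU.isFibGrpd_fp _ _ (Stk.isFibGrpd_ofPsh _) h𝒳 (Stk.isFibGrpd_ofPsh _)) hM'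
  intro U hU u hu
  have hflat : LocP @Flat (u ≫ g) := by
    intro U' V a b h ha hb comm
    exact hg (a ≫ u) b h ((RepWith @Etale).comp_mem _ _ ha hu) hb (by
      rw [Category.assoc]
      exact comm)
  have h0 := hf U hU (u ≫ g) hflat
  let θ : ofSpMap (u ≫ g) ≅ BasedFunctor.comp (ofSpMap u) (ofSpMap g) :=
    (ofPshMapComp u.hom g.hom).symm
  refine isCatModuli_of_equiv
    (BasedFunctor.comp (fpCongrLeft f θ) (pasteL (ofSpMap u) (ofSpMap g) f))
    (IsEquivOver.comp (isEquivOver_fpCongrLeft f θ) (isEquivOver_pasteL _ _ _)) _ ?_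
  exact h0

include h𝒳 hf in
/-- S16704. -/
theorem isUnifCatModuli_of_affine_flat (hY : IsAlgSpace Y) : IsUnifCatModuli f := by
  refine ⟨?_, fun M' hM' g hg => isCatModuli_fpFst_of_flat h𝒳 f hf M' hM' g hg⟩
  apply isCatModuli_of_charts f h𝒳 hY
  intro U hU u hu
  exact hf U hU u (locP_of_repWith etale_le_flat u (repWith_mono etale_le_flat hu))

end Main

end Groth.Agent.Helper19.CatMod
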